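import Cfsg.Agent.H76.PostBender.Main
import Cfsg.Agent.H19.ModBound.SuzukiWord
import Cfsg.Agent.H19.ModBound.UnitarySylow
import Cfsg.Agent.H59.SL2Bound
import Cfsg.Agent.H60.SzBridge
import Cfsg.Agent.H33.SylU.Embed
import Cfsg.Agent.Linear.Unitriangular

/-!
Module bounds for a group mapping onto a group of Bender's list.
-/

set_option autoImplicit false
set_option linter.style.haveILetI false

namespace Cfsg.Agent.H88.SEModule

open Subgroup Cfsg.Agent
open Cfsg.Agent.H76.PostBender (IsBenderGroup)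

theorem card_center_congr {A B : Type*} [Group A] [Group B] (e : A ≃* B) :
    Nat.card (center A) = Nat.card (center B) :=
  Nat.card_congr (Subgroup.centerCongr e).toEquiv

theorem conj_eq_of_isConj {Q : Type*} [Group Q] {z y : Q} (h : IsConj z y) : ∃ c : Q, c * z * c⁻¹ = y :=
  isConj_iff.mp h

theorem mapSylowEquiv {A B : Type*} [Group A] [Finite A] [Group B] [Finite B] (e : A ≃* B) (T : Sylow 2 A) :
    ∃ P : Sylow 2 B, Nonempty ((T : Subgroup A) ≃* (P : Subgroup B)) := by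
  refine ⟨Sylow.mapSurjective (f := e.toMonoidHom) e.surjective T, ⟨?_⟩⟩
  exact (Subgroup.equivMapOfInjective _ e.toMonoidHom e.injective).trans
    (MulEquiv.subgroupCongr (Sylow.coe_mapSurjective _ _).symm)

variable {Γ : Type*} [Group Γ] [Finite Γ]

/-- The bounds for `SL₂(q)`, `Sz(q)`, `PSU₃(q)`. -/
theorem family_bound {L : Type*} [Group L] [Finite L] (hB : IsBenderGroup L)
    (hconj : ∀ x y : L, orderOf x = 2 → orderOf y = 2 → IsConj x y)
    {V H : Subgroup Γ} (hV : IsPGroup 2 V) (hHV : H ≤ normalizer (V : Set Γ))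
    (φ : H →* L) (hφ : Function.Surjective φ)
    (hker : ∀ h : H, (h : Γ) ∈ centralizer (V : Set Γ) → φ h = 1) (T : Sylow 2 L)
    (a : H) (ha : a ^ 2 = 1) (hfa : φ a ≠ 1) :
    Nat.card (T : Subgroup L) ^ 2 ≤ Nat.card V ∧
      Nat.card (center (T : Subgroup L)) ≤
        (V ⊓ centralizer ({(a : Γ)} : Set Γ)).relIndex V := by
  haveI : Fact (Nat.Prime 2) := ⟨Nat.prime_two⟩
  set R := (V ⊓ centralizer ({(a : Γ)} : Set Γ)).relIndex V
  have hao : orderOf (φ a) = 2 := orderOf_eq_prime (by rw [← map_pow, ha, map_one]) hfa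
  have hcT : Nat.card (center (T : Subgroup L)) ≤ Nat.card (T : Subgroup L) :=
    Nat.le_of_dvd Nat.card_pos (card_subgroup_dvd_card _)
  rcases hB with ⟨F, _, _, hc, h4, ⟨e⟩⟩ | ⟨F, _, _, m, hm, hF, ⟨e₀⟩⟩ |
    ⟨F, _, _, q, hF, hq, h4, ⟨e⟩⟩
  · haveI := hc
    obtain ⟨e'⟩ := H76.PostBender.nonempty_equiv_sl_two e
    obtain ⟨n, -, hn⟩ := FiniteField.card F 2
    obtain ⟨h1, h2⟩ := H59.sl2_bound hV hHV hn (e.toMonoidHom.comp φ) (e.surjective.comp hφ)
      (fun h hh => by simp [hker h hh]) a ⟨1, by rw [pow_one]; exact ha⟩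
      (fun h => hfa (e.injective (by simpa using h)))
    obtain ⟨P, ⟨i⟩⟩ := mapSylowEquiv e' T
    have hT : Nat.card (T : Subgroup L) = 2 ^ (n : ℕ) := by
      rw [Nat.card_congr i.toEquiv, Linear.card_sylow_SL 2 P, hn]
      simp
    refine ⟨?_, hcT.trans (hT ▸ h1)⟩
    rw [hT, ← pow_mul, mul_comm]
    exact h2
  · haveI : Cfsg.Agent.Suzuki.SzField F m :=
      ⟨hF, hm⟩
    obtain ⟨i₀⟩ := H60.nonempty_lieSz_equiv (F := F) m
    let e := e₀.trans i₀
    obtain ⟨r, hr, hword⟩ := H19.ModBound.exists_word (F := F) m (n := 2 * (2 * m + 1)) rfl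
    obtain ⟨g, hg⟩ := hword (e (φ a)) (by rw [e.orderOf_eq]; exact hao)
    obtain ⟨g', hg'⟩ := (e.surjective.comp hφ) g
    obtain ⟨h1, h2⟩ := H19.ModBound.bound hV hHV (e.toMonoidHom.comp φ)
      (fun h hh => by simp [hker h hh]) hr a [1, g'] (by
        have hg'' : e (φ g') = g := hg'
        rw [← hg]
        congr 1
        simp [hg''])
    obtain ⟨P, ⟨i⟩⟩ := mapSylowEquiv e T
    obtain ⟨j⟩ := Suzuki.exists_sylow_iso m P
    have hT : Nat.card (T : Subgroup L) = 2 ^ (2 * (2 * m + 1)) := by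
      rw [Nat.card_congr i.toEquiv, ← Nat.card_congr j.toEquiv, Suzuki.card_U, Nat.card_eq_fintype_card,
        hF, ← pow_mul, mul_comm]
    refine ⟨?_, hcT.trans (hT ▸ ?_)⟩
    · rw [hT, ← pow_mul, mul_comm]; exact h2
    · refine (Nat.pow_le_pow_iff_left two_ne_zero).mp ?_
      rw [← pow_mul, mul_comm]
      simpa [List.length_cons] using h1
  · obtain ⟨f, rfl⟩ : ∃ f, q = 2 ^ f := by
      haveI := H76.PostBender.charP_two_of_card hF hq
      obtain ⟨n, -, hn⟩ := FiniteField.card F 2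
      obtain ⟨f, -, hf⟩ := (Nat.dvd_prime_pow Nat.prime_two).mp
        (show q ∣ 2 ^ (n : ℕ) from ⟨q, by rw [← hn, hF, sq]⟩)
      exact ⟨f, hf⟩
    have hf2 : 2 ≤ f := by
      by_contra h
      interval_cases f <;> omega
    haveI : H33.SylU.QField F f := ⟨hF⟩
    obtain ⟨r, hr, hword⟩ := H19.ModBound.exists_word_unitary (p := 2) hF (by omega) rfl (by omega)
    obtain ⟨P, ⟨i⟩⟩ := mapSylowEquiv e T
    obtain ⟨j⟩ := H33.SylU.nonempty_equiv_PSU P
    obtain ⟨ez⟩ : Nonempty (H33.SylU.Heis F f ≃* (T : Subgroup L)) := ⟨j.trans i.symm⟩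
    have hT : Nat.card (T : Subgroup L) = (2 ^ f) ^ 3 := by
      rw [← Nat.card_congr ez.toEquiv, H33.SylU.card_heis]
    have hZ : Nat.card (center (T : Subgroup L)) = 2 ^ f := by
      rw [← card_center_congr ez, H33.SylU.card_center]
    obtain ⟨z, hz⟩ := exists_prime_orderOf_dvd_card' (G := center (T : Subgroup L)) 2
      (hZ ▸ dvd_pow_self 2 (by omega))
    have hz2 : orderOf ((z : (T : Subgroup L)) : L) = 2 := by
      rw [Subgroup.orderOf_coe, Subgroup.orderOf_coe, hz]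
    obtain ⟨c, hc⟩ := isConj_iff.mp (hconj _ _ hao hz2)
    have hP : ∀ y ∈ (Sylow.mapSurjective (f := e.toMonoidHom) e.surjective T : Subgroup _),
        e (c * φ a * c⁻¹) * y = y * e (c * φ a * c⁻¹) := by
      rintro _ ⟨y, hy, rfl⟩
      show e _ * e y = e y * e _
      rw [← map_mul, ← map_mul, hc]
      exact congrArg e (congrArg Subtype.val (mem_center_iff.mp z.2 ⟨y, hy⟩)).symm
    obtain ⟨g₁, g₂, g₃, hg⟩ := hword (Sylow.mapSurjective (f := e.toMonoidHom) e.surjective T)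
      (e (c * φ a * c⁻¹)) ⟨c * φ a * c⁻¹, hc ▸ (z : (T : Subgroup L)).2, rfl⟩ hP (by
        intro h
        rw [map_eq_one_iff _ e.injective, hc] at h
        rw [h, orderOf_one] at hz2
        omega)
    obtain ⟨k₁, hk₁⟩ := (e.surjective.comp hφ) (g₁ * e c)
    obtain ⟨k₂, hk₂⟩ := (e.surjective.comp hφ) (g₂ * e c)
    obtain ⟨k₃, hk₃⟩ := (e.surjective.comp hφ) (g₃ * e c)
    obtain ⟨h1, h2⟩ := H19.ModBound.bound hV hHV (e.toMonoidHom.comp φ)
      (fun h hh => by simp [hker h hh]) hr a [k₁, k₂, k₃] (by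
        rw [Function.comp_apply] at hk₁ hk₂ hk₃
        rw [← hg]
        congr 1
        simp only [List.map_cons, List.map_nil, List.prod_cons, List.prod_nil, map_mul, map_inv,
          MonoidHom.comp_apply, MulEquiv.coe_toMonoidHom, mul_one]
        rw [hk₁, hk₂, hk₃]
        group)
    refine ⟨?_, ?_⟩
    · rw [hT, ← pow_mul, ← pow_mul]
      exact le_of_eq_of_le (by ring_nf) h2
    · rw [hZ]
      refine le_trans ?_ ((Nat.pow_le_pow_iff_left three_ne_zero).mp
        (show (2 ^ (2 * f)) ^ 3 ≤ R ^ 3 from le_of_eq_of_le (by rw [← pow_mul]; ring_nf) h1))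
      exact Nat.pow_le_pow_right two_pos (by omega)

end Cfsg.Agent.H88.SEModule
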