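import Cfsg.Agent.H88.SEModule.RepGroup
import Cfsg.Agent.H88.SEModule.Family

/-!
The bounds for a group with a strongly embedded subgroup and two commuting involutions, from Bender's theorem.
-/

set_option autoImplicit false
set_option linter.style.haveILetI false

namespace Cfsg.Agent.H88.SEModule

open Subgroup Cfsg.Agent Cfsg.Agent.H39

universe u

variable {G : Type u} [Group G] [Finite G] {V : Type*} [AddCommGroup V] [Module (ZMod 2) V]
  [Module.Finite (ZMod 2) V]

theorem bender_case (hBend : H76.PostBender.BenderHyp.{u}) {X : Subgroup G}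
    (hX : Cfsg.IsStronglyEmbedded X) {t v : G} (ht : orderOf t = 2) (hv : orderOf v = 2)
    (hc : Commute t v) (htv : t ≠ v) (S : Sylow 2 G) (ρ : Representation (ZMod 2) G V)
    (hρ : Function.Injective ρ) :
    Nat.card (S : Subgroup G) ^ 2 ≤ 2 ^ Module.finrank (ZMod 2) V ∧
      ∀ s ∈ (S : Subgroup G), s ≠ 1 →
        Nat.card (center (S : Subgroup G)) ≤ 2 ^ Module.finrank (ZMod 2) ↥(LinearMap.range (ρ s - 1)) := by
  haveI : Fact (Nat.Prime 2) := ⟨Nat.prime_two⟩
  obtain ⟨-, hB, hodd, hSE⟩ := H76.PostBender.quotient_structure hBend hX ht hv hc htv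
  set O := Cfsg.oddCore G with hO
  set π := QuotientGroup.mk' O with hπ
  haveI hLn := H76.PostBender.involClosure_normal (G := G ⧸ O)
  set L := H76.PostBender.involClosure (G ⧸ O) with hL
  set H₁ := L.comap π with hH₁
  haveI : H₁.Normal := hLn.comap π
  have hidx : Odd H₁.index := by
    rw [hH₁, index_comap_of_surjective L (QuotientGroup.mk'_surjective O)]; exact hodd
  have hSH : (S : Subgroup G) ≤ H₁ := by
    intro x hx
    obtain ⟨k, hk⟩ := IsPGroup.iff_orderOf.mp S.isPGroup' ⟨x, hx⟩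
    rw [Subgroup.orderOf_mk] at hk
    rw [← QuotientGroup.eq_one_iff, ← orderOf_eq_one_iff]
    exact Nat.eq_one_of_dvd_coprimes ((Nat.coprime_two_left.mpr hidx).pow_left k)
      (hk ▸ orderOf_map_dvd (QuotientGroup.mk' H₁) x) (orderOf_dvd_natCard _)
  -- the map onto `L`
  let φ : H₁ →* L := (π.comp H₁.subtype).codRestrict L fun x => x.2
  have hφ : Function.Surjective φ := by
    rintro ⟨y, hy⟩
    obtain ⟨g, rfl⟩ := QuotientGroup.mk'_surjective O y
    exact ⟨⟨g, hy⟩, rfl⟩
  have hφO : ∀ x : H₁, φ x = 1 ↔ (x : G) ∈ O := fun x =>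
    (Subtype.ext_iff).trans (QuotientGroup.eq_one_iff _)
  let S₁ : Sylow 2 H₁ := S.subtype hSH
  let T : Sylow 2 L := Sylow.mapSurjective hφ S₁
  -- the Sylow subgroup embeds
  let j : (S₁ : Subgroup H₁) →* (T : Subgroup L) :=
    (φ.comp (S₁ : Subgroup H₁).subtype).codRestrict _ fun x =>
      ⟨(x : H₁), x.2, rfl⟩
  have hjs : Function.Surjective j := by
    rintro ⟨_, x, hx, rfl⟩
    exact ⟨⟨x, hx⟩, rfl⟩
  have hSO : ∀ x : G, x ∈ (S : Subgroup G) → x ∈ O → x = 1 := by
    intro x hx hxO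
    obtain ⟨k, hk⟩ := IsPGroup.iff_orderOf.mp S.isPGroup' ⟨x, hx⟩
    rw [Subgroup.orderOf_mk] at hk
    have hd := orderOf_dvd_natCard (⟨x, hxO⟩ : O)
    rw [Subgroup.orderOf_mk] at hd
    exact orderOf_eq_one_iff.mp (Nat.eq_one_of_dvd_coprimes
      ((Nat.coprime_two_left.mpr Cores.odd_card_oddCore).pow_left k) (hk ▸ dvd_rfl) hd)
  have hji : Function.Injective j := (injective_iff_map_eq_one j).mpr fun x hx => by
    have := (hφO x).mp (congrArg Subtype.val hx)
    exact Subtype.ext (Subtype.ext (hSO _ x.2 this))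
  let e : (S : Subgroup G) ≃* (T : Subgroup L) :=
    (subgroupOfEquivOfLe hSH).symm.trans
      ((MulEquiv.subgroupCongr (S.coe_subtype hSH).symm).trans (MulEquiv.ofBijective j ⟨hji, hjs⟩))
  have hconj : ∀ x y : L, orderOf x = 2 → orderOf y = 2 → IsConj x y := fun x y hx hy =>
    se_involutions_conj hSE hx hy
  -- pass to the semidirect product
  haveI := finite_semi ρ
  let ι : H₁ →* Semi ρ := (SemidirectProduct.inr).comp H₁.subtype
  have hι : Function.Injective ι := SemidirectProduct.inr_injective.comp H₁.subtype_injective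
  let ei : H₁ ≃* ι.range := MonoidHom.ofInjective hι
  have hker : ∀ h : ι.range, (h : Semi ρ) ∈ centralizer (base ρ : Set (Semi ρ)) →
      φ.comp ei.symm.toMonoidHom h = 1 := by
    intro h hh
    obtain ⟨x, rfl⟩ := ei.surjective h
    have h1 : ρ (x : G) = 1 := (mem_centralizer_base ρ).mp hh
    have h2 : (x : G) = 1 := hρ (by rw [h1, map_one])
    simp [show x = 1 from Subtype.ext h2]
  have key : ∀ s ∈ (S : Subgroup G), orderOf s = 2 →
      Nat.card (S : Subgroup G) ^ 2 ≤ 2 ^ Module.finrank (ZMod 2) V ∧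
        Nat.card (center (S : Subgroup G)) ≤
          2 ^ Module.finrank (ZMod 2) ↥(LinearMap.range (ρ s - 1)) := by
    intro s hs hs2
    have hs1 : s ≠ 1 := fun h => by rw [h, orderOf_one] at hs2; omega
    obtain ⟨h1, h2⟩ := family_bound hB hconj (isPGroup_base ρ) (le_normalizer_base ρ _)
      (φ.comp ei.symm.toMonoidHom) (hφ.comp ei.symm.surjective) hker T (ei ⟨s, hSH hs⟩)
      (by
        rw [← map_pow]
        refine (congrArg ei (Subtype.ext ?_)).trans (map_one ei)
        rw [Subgroup.coe_pow, Subgroup.coe_one, ← hs2, pow_orderOf_eq_one])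
      (by
        rw [MonoidHom.comp_apply, MulEquiv.coe_toMonoidHom, MulEquiv.symm_apply_apply]
        exact fun h => hs1 (hSO s hs ((hφO _).mp h)))
    rw [card_center_congr e, Nat.card_congr e.toEquiv, ← card_base ρ, ← relIndex_centralizer ρ s]
    exact ⟨h1, h2⟩
  have hinv : ∀ s ∈ (S : Subgroup G), s ≠ 1 → ∃ i, orderOf (s ^ i) = 2 := by
    intro s hs hs1
    obtain ⟨k, hk⟩ := IsPGroup.iff_orderOf.mp S.isPGroup' ⟨s, hs⟩
    rw [Subgroup.orderOf_mk] at hk
    have hk0 : k ≠ 0 := by rintro rfl; exact hs1 (orderOf_eq_one_iff.mp (by simpa using hk))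
    refine ⟨2 ^ (k - 1), ?_⟩
    rw [orderOf_pow_of_dvd (by positivity) (hk ▸ pow_dvd_pow 2 (Nat.sub_le k 1)), hk,
      Nat.pow_div (Nat.sub_le k 1) two_pos, show k - (k - 1) = 1 by omega, pow_one]
  obtain ⟨g, hg⟩ : ∃ g : G, g * t * g⁻¹ ∈ (S : Subgroup G) := by
    obtain ⟨P, hP⟩ := (IsPGroup.of_card (n := 1)
      (show Nat.card (zpowers t) = 2 ^ 1 by rw [Nat.card_zpowers, ht, pow_one])).exists_le_sylow
    obtain ⟨g, rfl⟩ := MulAction.exists_smul_eq G P S
    exact ⟨g, ⟨t, hP (mem_zpowers t), rfl⟩⟩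
  refine ⟨(key _ hg (by rw [orderOf_conj, ht])).1, fun s hs hs1 => ?_⟩
  obtain ⟨i, hi⟩ := hinv s hs hs1
  exact (key _ (pow_mem hs i) hi).2.trans
    (Nat.pow_le_pow_right two_pos (finrank_range_pow_le ρ s i))

end Cfsg.Agent.H88.SEModule
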