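import Mathlib

/-!
Counting bounds for the small cases: orders of linear groups over two elements, free conjugation actions, and
a group of order nine with transitive automorphisms.
-/

set_option autoImplicit false
set_option linter.style.haveILetI false

namespace Cfsg.Agent.H88.SEModule

open Subgroup

variable {G : Type*} [Group G]

/-- The order of a subgroup of a faithful representation over two elements. -/
theorem card_dvd_GL {V : Type*} [AddCommGroup V] [Module (ZMod 2) V] [Module.Finite (ZMod 2) V]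
    (ρ : Representation (ZMod 2) G V) (hρ : Function.Injective ρ) (Q : Subgroup G) :
    Nat.card Q ∣ ∏ i : Fin (Module.finrank (ZMod 2) V),
      (2 ^ Module.finrank (ZMod 2) V - 2 ^ (i : ℕ)) := by
  let b := Module.finBasis (ZMod 2) V
  let f : Q →* GL (Fin (Module.finrank (ZMod 2) V)) (ZMod 2) :=
    (Units.map (LinearMap.toMatrixAlgEquiv b).toMonoidHom).comp (ρ.asGroupHom.comp Q.subtype)
  have hf : Function.Injective f := by
    intro x y h
    have h1 := congrArg Units.val h
    exact Subtype.ext (hρ ((LinearMap.toMatrixAlgEquiv b).injective h1))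
  have := Subgroup.card_subgroup_dvd_card f.range
  rw [← Nat.card_congr (MonoidHom.ofInjective hf).toEquiv, Matrix.card_GL_field, ZMod.card] at this
  exact this

/-- The odd part of the order of a small linear group over two elements. -/
theorem odd_dvd_small {d N : ℕ} (hN : Odd N) (h : N ∣ ∏ i : Fin d, (2 ^ d - 2 ^ (i : ℕ))) :
    (d ≤ 3 → N ∣ 21) ∧ (d ≤ 5 → N ∣ 9765) ∧ (d ≤ 7 → N ∣ 78129765) := by
  have key : ∀ a M : ℕ, (∏ i : Fin d, (2 ^ d - 2 ^ (i : ℕ))) ∣ 2 ^ a * M → N ∣ M := fun a M hd =>
    ((Nat.coprime_two_right.mpr hN).pow_right a).dvd_of_dvd_mul_left (h.trans hd)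
  refine ⟨fun hd => key 3 21 ?_, fun hd => key 10 9765 ?_, fun hd => key 21 78129765 ?_⟩ <;>
    interval_cases d <;> simp [Fin.prod_univ_succ] <;> norm_num

/-- A free conjugation action gives divisibility. -/
theorem free_dvd [Finite G] (K : Subgroup G) (T : G → Prop)
    (hinv : ∀ k ∈ K, ∀ t, T t → T (k * t * k⁻¹))
    (hfree : ∀ k ∈ K, k ≠ 1 → ∀ t, T t → k * t * k⁻¹ ≠ t) :
    Nat.card K ∣ Nat.card {t : G // T t} := by
  letI : MulAction K {t : G // T t} :=
    { smul := fun k t => ⟨(k : G) * t * (k : G)⁻¹, hinv k k.2 t t.2⟩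
      one_smul := fun t => Subtype.ext (show (1 : G) * t * (1 : G)⁻¹ = t by group)
      mul_smul := fun k l t => Subtype.ext
        (show (k : G) * l * t * ((k : G) * l)⁻¹ = k * (l * t * (l : G)⁻¹) * (k : G)⁻¹ by group) }
  have hst : ∀ t : {t : G // T t}, MulAction.stabilizer K t = ⊥ := fun t => by
    refine (Subgroup.eq_bot_iff_forall _).2 fun k hk => ?_
    by_contra hk1
    exact hfree k k.2 (fun e => hk1 (Subtype.ext e)) t t.2 (congrArg Subtype.val hk)
  rw [Nat.card_congr (MulAction.selfEquivOrbitsQuotientProd hst), Nat.card_prod]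
  exact dvd_mul_left _ _

section Ring

variable {R : Type*} [CommRing R]

/-- The sum of a group of order three. -/
def e3 (a : R) : R := 1 + a + a ^ 2

theorem e3_absorb {a : R} (ha : a ^ 3 = 1) : a * e3 a = e3 a := by
  simp only [e3]; linear_combination ha

theorem e3_fix {a e : R} (h2 : (2 : R) = 0) (h : a * e = e) : e3 a * e = e := by
  simp only [e3]; linear_combination (a + 2) * h + e * h2

theorem e3_mul {a b : R} (ha : a ^ 3 = 1) :
    e3 a * e3 (a * b) = e3 a * e3 b ∧ e3 a * e3 (a ^ 2 * b) = e3 a * e3 b := by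
  have h := e3_absorb ha
  have h2 : a ^ 2 * e3 a = e3 a := by rw [sq, mul_assoc, h, h]
  have h4 : (a ^ 2) ^ 2 * e3 a = e3 a := by rw [sq (a ^ 2), mul_assoc, h2, h2]
  constructor
  · show e3 a * (1 + a * b + (a * b) ^ 2) = e3 a * (1 + b + b ^ 2)
    linear_combination b * h + b ^ 2 * h2
  · show e3 a * (1 + a ^ 2 * b + (a ^ 2 * b) ^ 2) = e3 a * (1 + b + b ^ 2)
    linear_combination b * h2 + b ^ 2 * h4

theorem e3_sq {a : R} (h2 : (2 : R) = 0) (ha : a ^ 3 = 1) : e3 a * e3 a = e3 a :=
  e3_fix h2 (e3_absorb ha)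

theorem e3_pow_two {a : R} (ha : a ^ 3 = 1) : e3 (a ^ 2) = e3 a := by
  simp only [e3]; linear_combination a * ha

/-- The facts about the four subgroups of order three in a group of order nine. -/
theorem e3_nine {x y : R} (h2 : (2 : R) = 0) (hx : x ^ 3 = 1) (hy : y ^ 3 = 1) (A : Fin 4 → R)
    (hA : A = ![x, y, x * y, x ^ 2 * y]) :
    (∀ i, A i * (e3 x * e3 y) = e3 x * e3 y) ∧
      (∀ i j, i ≠ j → (e3 (A i) - e3 x * e3 y) * (e3 (A j) - e3 x * e3 y) = 0) ∧
      (∀ i, (e3 (A i) - e3 x * e3 y) * (e3 (A i) - e3 x * e3 y) = e3 (A i) - e3 x * e3 y) ∧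
      ((∀ i, e3 (A i) = e3 x * e3 y) → e3 x * e3 y = 1) := by
  set E := e3 x * e3 y with hE
  have hxE : x * E = E := by rw [hE, ← mul_assoc, e3_absorb hx]
  have hyE : y * E = E := by rw [hE, mul_left_comm, e3_absorb hy]
  have hfix : ∀ i, A i * E = E := by
    intro i; subst hA
    fin_cases i
    · simpa using hxE
    · simpa using hyE
    · show x * y * E = E
      rw [mul_assoc, hyE, hxE]
    · show x ^ 2 * y * E = E
      rw [mul_assoc, hyE, sq, mul_assoc, hxE, hxE]
  have hcube : ∀ i, A i ^ 3 = 1 := by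
    intro i; subst hA
    fin_cases i
    · simpa using hx
    · simpa using hy
    · show (x * y) ^ 3 = 1
      rw [mul_pow, hx, hy, one_mul]
    · show (x ^ 2 * y) ^ 3 = 1
      rw [mul_pow, hy, ← pow_mul, mul_comm 2 3, pow_mul, hx, one_pow, one_mul]
  have hEE : E * E = E := by rw [hE, mul_mul_mul_comm, e3_sq h2 hx, e3_sq h2 hy]
  have hpair : ∀ i j, i < j → e3 (A i) * e3 (A j) = E := by
    intro i j hij
    have h1 : e3 x * e3 (x * y) = E := (e3_mul hx).1
    have h3 : e3 x * e3 (x ^ 2 * y) = E := (e3_mul hx).2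
    have h4 : e3 y * e3 (x * y) = E := by rw [mul_comm x y, (e3_mul hy).1, mul_comm]
    have h5 : e3 y * e3 (x ^ 2 * y) = E := by
      rw [mul_comm (x ^ 2) y, (e3_mul hy).1, e3_pow_two hx, mul_comm]
    have h6 : e3 (x * y) * e3 (x ^ 2 * y) = E := by
      have hc : (x * y) ^ 3 = 1 := by rw [mul_pow, hx, hy, one_mul]
      rw [show x ^ 2 * y = x * y * x by ring, (e3_mul hc).1, mul_comm, h1]
    subst hA
    fin_cases i <;> fin_cases j <;> first | exact absurd hij (by decide) | assumption | exact hE.symm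
  have horth : ∀ i j, i < j → (e3 (A i) - E) * (e3 (A j) - E) = 0 := by
    intro i j hij
    have hi := e3_fix h2 (hfix i)
    have hj := e3_fix h2 (hfix j)
    linear_combination hpair i j hij - hi - hj + hEE
  refine ⟨hfix, fun i j hij => ?_, fun i => ?_, fun h => ?_⟩
  · rcases lt_or_gt_of_ne hij with h | h
    · exact horth i j h
    · rw [mul_comm]; exact horth j i h
  · linear_combination e3_sq h2 (hcube i) - 2 * e3_fix h2 (hfix i) + hEE
  · have h0 := h 0
    have h1 := h 1
    have h22 := h 2
    have h3 := h 3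
    subst hA
    simp only [Matrix.cons_val_zero, Matrix.cons_val_one, Matrix.cons_val] at h0 h1 h22 h3
    have hsum : e3 x + e3 y + e3 (x * y) + e3 (x ^ 2 * y) = 1 + E := by
      simp only [hE, e3]
      linear_combination x * y ^ 2 * hx + h2
    linear_combination -hsum + h0 + h1 + h22 + h3 + (2 * E - 1) * h2

end Ring

/-- Orthogonal idempotents have independent ranges. -/
theorem sum_finrank_range_le {k W ι : Type*} [Field k] [AddCommGroup W] [Module k W]
    [FiniteDimensional k W] [Fintype ι] [DecidableEq ι] (f : ι → Module.End k W)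
    (hidem : ∀ i, f i * f i = f i) (horth : ∀ i j, i ≠ j → f i * f j = 0) :
    ∑ i, Module.finrank k ↥(LinearMap.range (f i)) ≤ Module.finrank k W := by
  let Φ : ((i : ι) → ↥(LinearMap.range (f i))) →ₗ[k] W :=
    ∑ i, (LinearMap.range (f i)).subtype.comp (LinearMap.proj i)
  have hΦ : Function.Injective Φ := by
    refine (injective_iff_map_eq_zero Φ).mpr fun v hv => funext fun j => Subtype.ext ?_
    have h1 : f j (Φ v) = (v j : W) := by
      simp only [Φ, LinearMap.sum_apply, LinearMap.comp_apply, Submodule.subtype_apply,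
        LinearMap.proj_apply, map_sum]
      rw [Finset.sum_eq_single j]
      · obtain ⟨w, hw⟩ := LinearMap.mem_range.mp (v j).2
        rw [← hw, ← Module.End.mul_apply, hidem]
      · intro i _ hij
        obtain ⟨w, hw⟩ := LinearMap.mem_range.mp (v i).2
        rw [← hw, ← Module.End.mul_apply, horth j i (Ne.symm hij), LinearMap.zero_apply]
      · exact fun h => absurd (Finset.mem_univ _) h
    rw [hv, map_zero] at h1
    exact h1.symm
  rw [← Module.finrank_pi_fintype k]
  exact LinearMap.finrank_le_finrank_of_injective hΦ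

end Cfsg.Agent.H88.SEModule
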