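import Mathlib
import Cfsg.Agent.H71.HallHigmanExact

/-!
The degree of a 2-element over two elements, by the exact Hall–Higman theorem.
-/

set_option autoImplicit false
set_option linter.style.haveILetI false

namespace Cfsg.Agent.H88.SEModule

open Subgroup Cfsg.Agent

theorem sub_one_pow_finrank_eq_zero {V : Type*} [AddCommGroup V] [Module (ZMod 2) V]
    [Module.Finite (ZMod 2) V] (T : Module.End (ZMod 2) V) {c : ℕ} (hT : T ^ 2 ^ c = 1) :
    (T - 1) ^ Module.finrank (ZMod 2) V = 0 := by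
  haveI : Fact (Nat.Prime 2) := ⟨Nat.prime_two⟩
  have hnil : IsNilpotent (T - 1) := ⟨2 ^ c, by
    rw [H71.Exact.sub_one_pow_char (p := 2) (ZMod.natCast_self 2), hT, sub_self]⟩
  have h := LinearMap.aeval_self_charpoly (T - 1)
  rw [hnil.charpoly_eq_X_pow_finrank, map_pow, Polynomial.aeval_X] at h
  exact h

/-- A 2-element `x` of order `2 ^ j` whose involution moves a normalized odd `q`-group. -/
theorem degree_bound {G : Type*} [Group G] [Finite G] {V : Type*} [AddCommGroup V] [Module (ZMod 2) V]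
    [Module.Finite (ZMod 2) V] (ρ : Representation (ZMod 2) G V) (hρ : Function.Injective ρ)
    {q : ℕ} [hq : Fact q.Prime] (hq2 : q ≠ 2) (Q : Subgroup G) (hQ : IsPGroup q Q) {x : G} {j : ℕ}
    (hj : 0 < j) (hxo : orderOf x = 2 ^ j) (hxQ : x ∈ normalizer (Q : Set G))
    (hnc : x ^ 2 ^ (j - 1) ∉ centralizer (Q : Set G)) :
    2 ^ j ≤ Module.finrank (ZMod 2) V ∨
      ((¬ ∀ a ∈ Q, ∀ b ∈ Q, Commute a b) ∧ 3 * 2 ^ j ≤ 4 * Module.finrank (ZMod 2) V) := by
  classical
  haveI : Fact (Nat.Prime 2) := ⟨Nat.prime_two⟩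
  set d := Module.finrank (ZMod 2) V with hd
  by_contra hne
  push Not at hne
  obtain ⟨hlt, hbad⟩ := hne
  let K := AlgebraicClosure (ZMod 2)
  let b := Module.finBasis (ZMod 2) V
  let φ : Module.End (ZMod 2) V →+* Module.End K (Fin d → K) :=
    (Matrix.toLinAlgEquiv' (R := K)).toRingHom.comp ((algebraMap (ZMod 2) K).mapMatrix.comp
      (LinearMap.toMatrixAlgEquiv b).toRingHom)
  have hφ : Function.Injective φ := fun a c h =>
    (LinearMap.toMatrixAlgEquiv b).injective (Matrix.map_injective (algebraMap (ZMod 2) K).injective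
      ((Matrix.toLinAlgEquiv' (R := K)).injective h))
  let σ : G →* Module.End K (Fin d → K) := φ.toMonoidHom.comp ρ
  haveI : CharP K 2 := charP_of_injective_algebraMap (algebraMap (ZMod 2) K).injective 2
  have hr : (σ x - 1) ^ d = 0 := by
    show (φ (ρ x) - 1) ^ d = 0
    rw [← map_one φ, ← map_sub, ← map_pow,
      sub_one_pow_finrank_eq_zero (ρ x) (c := j) (by rw [← map_pow, ← hxo, pow_orderOf_eq_one, map_one]),
      map_zero]
  have hqk : (q : K) ≠ 0 := fun h => hq2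
    ((Nat.prime_dvd_prime_iff_eq Nat.prime_two hq.out).mp ((CharP.cast_eq_zero_iff K 2 q).mp h)).symm
  refine hnc (H71.Exact.hall_higman_B_exact (s := q) (p := 2) hq2 (CharP.cast_eq_zero K 2) hqk
    (ρ := σ) (hφ.comp hρ) hj Q hQ x hxQ (hxo ▸ pow_orderOf_eq_one x) hr hlt ?_ (mem_zpowers _))
  by_cases hab : ∀ a ∈ Q, ∀ b ∈ Q, Commute a b
  · exact Or.inr hab
  refine Or.inl fun n₀ m hn₀ hn₀j hm heq => ?_
  have hq3 : 3 ≤ q := by have := hq.out.two_le; omega
  have hqm : 3 ≤ q ^ m := hq3.trans (Nat.le_self_pow hm.ne' q)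
  have hn2 : 2 ≤ n₀ := by
    by_contra h
    interval_cases n₀ <;> omega
  have hbad' := hbad (by
    obtain ⟨a, ha, b, hb, hab⟩ : ∃ a ∈ Q, ∃ b ∈ Q, ¬ Commute a b := by
      push Not at hab; exact hab
    exact ⟨a, ha, b, hb, hab⟩)
  have hsplit : 2 ^ j = 2 ^ (j - n₀) * q ^ m + 2 ^ (j - n₀) := by
    rw [show 2 ^ j = 2 ^ (j - n₀) * 2 ^ n₀ by rw [← pow_add, Nat.sub_add_cancel hn₀j], heq]
    ring
  have h4 : 2 ^ (j - n₀) * 4 ≤ 2 ^ j := by
    rw [show (4 : ℕ) = 2 ^ 2 from rfl, ← pow_add]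
    exact Nat.pow_le_pow_right two_pos (by omega)
  omega

end Cfsg.Agent.H88.SEModule
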