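import Mathlib
import Cfsg.Agent.H71.MinimalAction
import Cfsg.Agent.Coprime.Generation
import Cfsg.Agent.S0016
import Cfsg.Prelude.Def_Involutions

/-!
A minimal subgroup of the odd core moved by the involution, and the orders of elements of the Sylow subgroup.
-/

set_option autoImplicit false
set_option linter.style.haveILetI false

namespace Cfsg.Agent.H88.SEModule

open Subgroup Cfsg.Agent

variable {G : Type*} [Group G] [Finite G]

/-- An involution that centralizes the odd core `O` of `G = O C(t)` is central. -/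
theorem not_le_centralizer_of_top {H O : Subgroup G} {t : G} (hH : Cfsg.IsStronglyEmbedded H)
    (ht : orderOf t = 2) (htop : O ⊔ centralizer ({t} : Set G) = ⊤)
    (huniq : ∀ w : G, orderOf w = 2 → Commute w t → w = t) :
    ¬ O ≤ centralizer ({t} : Set G) := by
  haveI : Fact (Nat.Prime 2) := ⟨Nat.prime_two⟩
  intro hle
  rw [sup_eq_right.mpr hle] at htop
  have hcen : ∀ g : G, g * t = t * g := fun g =>
    mem_centralizer_singleton_iff.mp (htop.symm ▸ mem_top g)
  obtain ⟨w, hw⟩ := exists_prime_orderOf_dvd_card' (G := H) 2 (even_iff_two_dvd.mp hH.2.1)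
  rw [← Subgroup.orderOf_coe] at hw
  have htH : t ∈ H := huniq _ hw (hcen _) ▸ w.2
  obtain ⟨g, -, hg⟩ := SetLike.exists_of_lt (lt_top_iff_ne_top.mpr hH.1)
  have htg : t ∈ H ⊓ H.map (MulAut.conj g).toMonoidHom :=
    ⟨htH, t, htH, show g * t * g⁻¹ = t by rw [hcen g, mul_inv_cancel_right]⟩
  have hd := Subgroup.orderOf_dvd_natCard _ htg
  rw [ht] at hd
  exact Nat.not_even_iff_odd.mpr (hH.2.2 g hg) (even_iff_two_dvd.mpr hd)

/-- A minimal `B`-invariant `q`-subgroup of a normal odd subgroup moved by the central involution `t` of `B`. -/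
theorem exists_target {B O : Subgroup G} [O.Normal] (hO : Odd (Nat.card O)) (hB : IsPGroup 2 B) {t : G}
    (htB : t ∈ B) (ht : orderOf t = 2) (htc : ∀ b ∈ B, Commute b t)
    (hnt : ¬ O ≤ centralizer ({t} : Set G)) :
    ∃ (q : ℕ) (_ : Fact q.Prime) (Q Φ : Subgroup G), q ≠ 2 ∧ IsPGroup q Q ∧
      B ≤ normalizer (Q : Set G) ∧ t ∉ centralizer (Q : Set G) ∧ (∀ x ∈ Q, x ^ q = 1) ∧ Φ ≤ Q ∧
      (∀ x ∈ Q, Commute x t ↔ x ∈ Φ) ∧
      ((∀ a ∈ Q, ∀ b ∈ Q, Commute a b) → Φ = ⊥) ∧
      ((¬ ∀ a ∈ Q, ∀ b ∈ Q, Commute a b) → q ∣ Nat.card Φ ∧ q ^ 3 ∣ Nat.card Q) := by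
  classical
  haveI : Fact (Nat.Prime 2) := ⟨Nat.prime_two⟩
  obtain ⟨a, ha⟩ := IsPGroup.iff_card.mp hB
  have hcop : (Nat.card B).Coprime (Nat.card O) := ha ▸ (Nat.coprime_two_left.mpr hO).pow_left a
  have hsol : Group.IsSolvable B ∨ Group.IsSolvable O := by
    haveI := hB.isNilpotent; exact Or.inl inferInstance
  obtain ⟨q, hq, R, ⟨hRO, hR, hBR⟩, hRt⟩ : ∃ (q : ℕ) (_ : Fact q.Prime) (R : Subgroup G),
      (R ≤ O ∧ IsPGroup q R ∧ B ≤ normalizer (R : Set G)) ∧ ¬ R ≤ centralizer ({t} : Set G) := by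
    by_contra hno
    push Not at hno
    refine hnt (Coprime.le_of_exists_sylow_le fun q hq => ?_)
    haveI : Fact q.Prime := ⟨hq⟩
    obtain ⟨P, hP⟩ := Coprime.exists_invariant_sylow le_normalizer_of_normal hcop hsol q
    exact ⟨P, hno q ⟨hq⟩ _ ⟨map_subtype_le _, P.isPGroup'.map _, hP⟩⟩
  -- the minimal one
  set C : Set (Subgroup G) := {U | U ≤ R ∧ B ≤ normalizer (U : Set G) ∧ ¬ U ≤ centralizer ({t} : Set G)}
  obtain ⟨Q, ⟨hQR, hBQ, hQt⟩, hmin⟩ := (Set.toFinite C).exists_minimal ⟨R, le_rfl, hBR, hRt⟩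
  have hQp : IsPGroup q Q := hR.to_le hQR
  have hq2 : q ≠ 2 := by
    rintro rfl
    refine hRt (fun x hx => ?_)
    obtain ⟨k, hk⟩ := IsPGroup.iff_orderOf.mp hR ⟨x, hx⟩
    rw [Subgroup.orderOf_mk] at hk
    have : x = 1 := orderOf_eq_one_iff.mp (Nat.eq_one_of_dvd_coprimes
      ((Nat.coprime_two_left.mpr hO).pow_left k) (hk ▸ dvd_rfl) (Subgroup.orderOf_dvd_natCard O (hRO hx)))
    exact this ▸ one_mem _
  have hle : ∀ U : Subgroup G, U ≤ centralizer (zpowers t : Set G) ↔ U ≤ centralizer ({t} : Set G) := by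
    intro U
    rw [zpowers_eq_closure, centralizer_closure]
  have hAn : B ≤ normalizer ((zpowers t : Subgroup G) : Set G) := by
    refine le_trans (fun b hb => ?_) (centralizer_le_normalizer _)
    rw [zpowers_eq_closure, centralizer_closure]
    exact mem_centralizer_singleton_iff.mpr (htc b hb).eq
  have hAp : (Nat.card (zpowers t)).Coprime q := by
    rw [Nat.card_zpowers, ht]
    exact (Nat.coprime_primes Nat.prime_two hq.out).mpr (Ne.symm hq2)
  obtain ⟨hQA, hΦ, hdich, -, hexp⟩ := H71.minimal_action B (zpowers t) Q hQp hBQ (zpowers_le.mpr htB) hAn hAp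
    (fun h => hQt ((hle Q).mp (commutator_eq_bot_iff_le_centralizer.mp h)))
    (fun U hU hBU => commutator_eq_bot_iff_le_centralizer.mpr ((hle U).mpr (by
      by_contra hUt
      exact hU.not_ge (hmin ⟨hU.le.trans hQR, hBU, hUt⟩ hU.le))))
  set Φ := (frattini ↥Q).map Q.subtype with hΦdef
  have hiff : ∀ x ∈ Q, Commute x t ↔ x ∈ Φ := by
    intro x hx
    rw [← hΦ, mem_inf, zpowers_eq_closure, centralizer_closure, mem_centralizer_singleton_iff]
    exact ⟨fun h => ⟨hx, h⟩, fun h => h.2⟩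
  refine ⟨q, hq, Q, Φ, hq2, hQp, hBQ, fun h => hQt fun x hx =>
    mem_centralizer_singleton_iff.mpr (mem_centralizer_iff.mp h x hx), hexp hq2, map_subtype_le _, hiff,
    fun hab => ?_, fun hna => ?_⟩
  · -- abelian: coprime action has no fixed points
    obtain ⟨n, hn⟩ := IsPGroup.iff_card.mp hQp
    have hAQ : zpowers t ≤ normalizer (Q : Set G) := zpowers_le.mpr (hBQ htB)
    have hcomm : commutator ↥Q ≤ ⊥ := by
      rw [_root_.commutator_def, commutator_le]
      intro u _ v _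
      rw [mem_bot, commutatorElement_eq_one_iff_mul_comm]
      exact Subtype.ext (hab _ u.2 _ v.2)
    have h1 := H71.inf_centralizer_le_of_commutator_eq hAQ (hn ▸ hAp.pow_right n) hQA ⊥ hcomm
      (fun g _ => by rw [Subgroup.map_bot]; exact mem_normalizer_iff.2 fun x => by simp)
    rw [Subgroup.map_bot, hΦ] at h1
    exact le_bot_iff.mp h1
  · -- nonabelian: special
    have hsp : Cfsg.IsSpecial q ↥Q := hdich.resolve_left fun h => hna fun a ha b hb =>
      congrArg Subtype.val (h.1.is_comm.comm ⟨a, ha⟩ ⟨b, hb⟩)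
    have hncomm : ¬ IsMulCommutative Q := fun h => hna fun a ha b hb =>
      congrArg Subtype.val (h.is_comm.comm ⟨a, ha⟩ ⟨b, hb⟩)
    obtain ⟨n, hn⟩ := IsPGroup.iff_card.mp hQp
    have hn3 : 3 ≤ n := by
      by_contra hlt
      refine hncomm ?_
      interval_cases n
      · haveI : Subsingleton Q := (Nat.card_eq_one_iff_unique.mp (by simpa using hn)).1
        exact ⟨⟨fun a b => Subsingleton.elim _ _⟩⟩
      · haveI := isCyclic_of_prime_card (α := Q) (p := q) (by simpa using hn)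
        exact ⟨⟨fun a b => by
          obtain ⟨g, hg⟩ := IsCyclic.exists_generator (α := Q)
          obtain ⟨i, rfl⟩ := mem_zpowers_iff.mp (hg a)
          obtain ⟨k, rfl⟩ := mem_zpowers_iff.mp (hg b)
          exact zpow_mul_comm g i k⟩⟩
      · exact ⟨⟨IsPGroup.commutative_of_card_eq_prime_sq hn⟩⟩
    refine ⟨?_, hn ▸ pow_dvd_pow q hn3⟩
    rw [hΦdef, card_map_of_injective Q.subtype_injective]
    obtain ⟨i, hi⟩ := IsPGroup.iff_card.mp (hQp.to_subgroup (frattini ↥Q))
    rw [hi]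
    refine dvd_pow_self q fun hi0 => hncomm ?_
    rw [hi0, pow_zero, Subgroup.card_eq_one] at hi
    have hc : commutator ↥Q = ⊥ := by rw [hsp.2.2, ← hsp.2.1, hi]
    exact ⟨⟨fun a b => commutatorElement_eq_one_iff_mul_comm.mp (mem_bot.mp (hc ▸
      commutator_mem_commutator (mem_top a) (mem_top b)))⟩⟩

/-- A 2-group with one involution has an element of order at least half the group order. -/
theorem exists_large_order {S : Subgroup G} (hS : IsPGroup 2 S)
    (huniq : ∀ x ∈ S, ∀ y ∈ S, orderOf x = 2 → orderOf y = 2 → x = y) :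
    ∃ x ∈ S, Nat.card S ≤ 2 * orderOf x := by
  haveI : Fact (Nat.Prime 2) := ⟨Nat.prime_two⟩
  have hu : ∀ A B : Subgroup ↥S, Nat.card A = 2 → Nat.card B = 2 → A = B := by
    intro A B hA hB
    obtain ⟨x, hx⟩ := exists_prime_orderOf_dvd_card' (G := A) 2 (by rw [hA])
    obtain ⟨y, hy⟩ := exists_prime_orderOf_dvd_card' (G := B) 2 (by rw [hB])
    rw [← Subgroup.orderOf_coe] at hx hy
    have hxy : (x : ↥S) = (y : ↥S) := Subtype.ext (huniq _ (x : ↥S).2 _ (y : ↥S).2
      (by rw [Subgroup.orderOf_coe]; exact hx) (by rw [Subgroup.orderOf_coe]; exact hy))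
    have hA' : zpowers (x : ↥S) = A :=
      eq_of_le_of_card_ge (zpowers_le.2 x.2) (by rw [Nat.card_zpowers, hx, hA])
    have hB' : zpowers (y : ↥S) = B :=
      eq_of_le_of_card_ge (zpowers_le.2 y.2) (by rw [Nat.card_zpowers, hy, hB])
    rw [← hA', ← hB', hxy]
  rcases S0016.result 2 hS hu with hc | ⟨-, n, ⟨e⟩⟩
  · obtain ⟨g, hg⟩ := hc.exists_ofOrder_eq_natCard
    exact ⟨g, g.2, by rw [Subgroup.orderOf_coe, hg]; omega⟩
  · haveI : NeZero (2 ^ n) := ⟨by positivity⟩
    refine ⟨(e.symm (QuaternionGroup.a 1) : S), SetLike.coe_mem _, ?_⟩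
    rw [Subgroup.orderOf_coe, e.symm.orderOf_eq, QuaternionGroup.orderOf_a_one, Nat.card_congr e.toEquiv,
      Nat.card_eq_fintype_card, QuaternionGroup.card]
    omega

end Cfsg.Agent.H88.SEModule
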