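import Cfsg.Agent.H88.SEModule.Nine
import Cfsg.Agent.H88.SEModule.Degree
import Cfsg.Agent.H88.SEModule.Target
import Cfsg.Agent.H76.PostBender.Main

/-!
The bound `2 k ≤ dim V` when no two involutions commute.
-/

set_option autoImplicit false
set_option linter.style.haveILetI false

namespace Cfsg.Agent.H88.SEModule

open Subgroup Cfsg.Agent

theorem eight_mul_le {k : ℕ} (hk : 5 ≤ k) : 8 * k ≤ 3 * 2 ^ (k - 1) := by
  induction k, hk using Nat.le_induction with
  | base => norm_num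
  | succ n hn ih =>
    rw [Nat.add_sub_cancel, show n = n - 1 + 1 by omega, pow_succ]
    omega

/-- An involution moves some vector, and the space it centralizes contains the commutator. -/
theorem two_le_finrank {G : Type*} [Group G] {V : Type*} [AddCommGroup V] [Module (ZMod 2) V]
    [Module.Finite (ZMod 2) V] (ρ : Representation (ZMod 2) G V) (hρ : Function.Injective ρ) {t : G}
    (ht : orderOf t = 2) : 2 ≤ Module.finrank (ZMod 2) V := by
  set T := ρ t - 1 with hT
  have hne : T ≠ 0 := fun h => by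
    have h1 : t = 1 := hρ (by rw [map_one]; exact sub_eq_zero.mp h)
    rw [h1, orderOf_one] at ht
    omega
  have hsq : T * T = 0 := by
    have ht2 : t ^ 2 = 1 := ht ▸ pow_orderOf_eq_one t
    have h1 : ρ t * ρ t = 1 := by rw [← map_mul, ← sq, ht2, map_one]
    refine LinearMap.ext fun v => ?_
    have hadd : ∀ w : V, w + w = 0 := fun w => by
      rw [← two_smul (ZMod 2) w, show (2 : ZMod 2) = 0 from rfl, zero_smul]
    have h2 : ρ t (ρ t v) = v := by rw [← Module.End.mul_apply, h1]; rfl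
    show ρ t (ρ t v - v) - (ρ t v - v) = 0
    rw [map_sub, h2, show v - ρ t v - (ρ t v - v) = (v + v) - (ρ t v + ρ t v) by abel, hadd, hadd, sub_zero]
  have h1 : LinearMap.range T ≤ LinearMap.ker T := by
    rintro _ ⟨v, rfl⟩
    rw [LinearMap.mem_ker, ← Module.End.mul_apply, hsq, LinearMap.zero_apply]
  have h2 := Submodule.finrank_mono h1
  have h3 := LinearMap.finrank_range_add_finrank_ker T
  have h4 : Module.finrank (ZMod 2) ↥(LinearMap.range T) ≠ 0 := fun h =>
    hne (LinearMap.range_eq_bot.mp (Submodule.finrank_eq_zero.mp h))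
  omega

variable {G : Type*} [Group G] [Finite G]

theorem single_case {H : Subgroup G} (hH : Cfsg.IsStronglyEmbedded H)
    (h1 : ∀ s w : G, orderOf s = 2 → orderOf w = 2 → Commute s w → s = w) (S : Sylow 2 G)
    {V : Type*} [AddCommGroup V] [Module (ZMod 2) V] [Module.Finite (ZMod 2) V]
    (ρ : Representation (ZMod 2) G V) (hρ : Function.Injective ρ) {k : ℕ}
    (hk : Nat.card (S : Subgroup G) = 2 ^ k) : 2 * k ≤ Module.finrank (ZMod 2) V := by
  classical
  haveI : Fact (Nat.Prime 2) := ⟨Nat.prime_two⟩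
  set d := Module.finrank (ZMod 2) V with hd
  rcases Nat.eq_zero_or_pos k with rfl | hk0
  · omega
  haveI : Nontrivial (S : Subgroup G) :=
    Finite.one_lt_card_iff_nontrivial.mp (hk ▸ Nat.one_lt_two_pow hk0.ne')
  haveI := S.isPGroup'.center_nontrivial
  obtain ⟨n, hn, hc⟩ :=
    (S.isPGroup'.to_subgroup (center (S : Subgroup G))).nontrivial_iff_card.mp inferInstance
  obtain ⟨z, hz⟩ := exists_prime_orderOf_dvd_card' (G := center (S : Subgroup G)) 2
    (hc ▸ dvd_pow_self 2 hn.ne')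
  set t : G := ((z : (S : Subgroup G)) : G) with htdef
  have ht : orderOf t = 2 := by rw [htdef, Subgroup.orderOf_coe, Subgroup.orderOf_coe, hz]
  have htS : t ∈ (S : Subgroup G) := (z : (S : Subgroup G)).2
  have htc : ∀ b ∈ (S : Subgroup G), Commute b t := fun b hb =>
    congrArg Subtype.val (mem_center_iff.mp z.2 ⟨b, hb⟩)
  have huS : ∀ w ∈ (S : Subgroup G), orderOf w = 2 → w = t := fun w hw hw2 => h1 w t hw2 ht (htc w hw)
  have hd2 : 2 ≤ d := two_le_finrank ρ hρ ht
  rcases eq_or_ne k 1 with rfl | hk1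
  · omega
  have hnt := not_le_centralizer_of_top hH ht (H76.PostBender.top_of_single ht h1)
    (fun w hw hc => h1 w t hw ht hc)
  obtain ⟨q, hq, Q, Φ, hq2, hQp, hSQ, htQ, hexp, hΦQ, hiff, hab, hna⟩ :=
    exists_target (B := (S : Subgroup G)) (O := Cfsg.pPrimeCore 2 G) Cores.odd_card_oddCore S.isPGroup' htS ht htc hnt
  -- the powers of a non-trivial element of `S` reach `t`
  have hpow : ∀ s ∈ (S : Subgroup G), s ≠ 1 → ∀ j, orderOf s = 2 ^ j → s ^ 2 ^ (j - 1) = t := by
    intro s hs hs1 j hj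
    have hj0 : j ≠ 0 := by rintro rfl; exact hs1 (orderOf_eq_one_iff.mp (by simpa using hj))
    refine huS _ (pow_mem hs _) ?_
    rw [orderOf_pow_of_dvd (by positivity) (hj ▸ pow_dvd_pow 2 (Nat.sub_le j 1)), hj,
      Nat.pow_div (Nat.sub_le j 1) two_pos, show j - (j - 1) = 1 by omega, pow_one]
  have hord : ∀ s ∈ (S : Subgroup G), ∃ j, orderOf s = 2 ^ j := by
    intro s hs
    obtain ⟨j, hj⟩ := IsPGroup.iff_orderOf.mp S.isPGroup' ⟨s, hs⟩
    exact ⟨j, by rw [← hj, Subgroup.orderOf_mk]⟩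
  have hinv : ∀ s ∈ (S : Subgroup G), ∀ x, x ∈ Q ∧ x ∉ Φ → s * x * s⁻¹ ∈ Q ∧ s * x * s⁻¹ ∉ Φ := by
    intro s hs x hx
    have hm : s * x * s⁻¹ ∈ Q := (mem_normalizer_iff.mp (hSQ hs) x).mp hx.1
    refine ⟨hm, fun h => hx.2 ((hiff x hx.1).mp ?_)⟩
    have h2 : Commute (s * x * s⁻¹) t := (hiff _ hm).mpr h
    have h3 := h2.map (MulAut.conj s⁻¹).toMonoidHom
    simpa [mul_assoc, show s⁻¹ * (t * s) = t by rw [← (htc s hs).eq, inv_mul_cancel_left]] using h3
  have hfree : ∀ s ∈ (S : Subgroup G), s ≠ 1 → ∀ x, x ∈ Q ∧ x ∉ Φ → s * x * s⁻¹ ≠ x := by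
    intro s hs hs1 x hx h
    obtain ⟨j, hj⟩ := hord s hs
    refine hx.2 ((hiff x hx.1).mp ?_)
    rw [← hpow s hs hs1 j hj]
    exact (Commute.pow_right (show Commute x s from (mul_inv_eq_iff_eq_mul.mp h).symm) _)
  have hdiv : 2 ^ k ∣ Nat.card Q - Nat.card Φ := by
    have h := free_dvd (S : Subgroup G) (fun x => x ∈ Q ∧ x ∉ Φ) hinv hfree
    rw [hk] at h
    refine h.trans (dvd_of_eq ?_)
    show Nat.card {x : G // x ∈ Q ∧ x ∉ Φ} = _
    rw [show Nat.card {x : G // x ∈ Q ∧ x ∉ Φ} = ((Q : Set G) \ (Φ : Set G)).ncard from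
      Nat.card_coe_set_eq ((Q : Set G) \ (Φ : Set G)), Set.ncard_sdiff hΦQ]
    rfl
  have hQodd : Odd (Nat.card Q) := by
    obtain ⟨a, ha⟩ := IsPGroup.iff_card.mp hQp
    rw [ha]
    exact (hq.out.odd_of_ne_two hq2).pow
  obtain ⟨hM3, hM5, hM7⟩ := odd_dvd_small hQodd (card_dvd_GL ρ hρ Q)
  have hlt : Nat.card Φ < Nat.card Q := by
    refine lt_of_le_of_ne (card_le_of_le hΦQ) fun h => htQ (mem_centralizer_iff.mpr fun x hx => ?_)
    exact ((hiff x hx).mpr ((eq_of_le_of_card_ge hΦQ h.ge).symm ▸ hx)).eq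
  obtain ⟨a, ha⟩ := IsPGroup.iff_card.mp hQp
  obtain ⟨b, hb⟩ := IsPGroup.iff_card.mp (hQp.to_le hΦQ)
  have hba : b < a := by
    rw [ha, hb] at hlt
    exact (Nat.pow_lt_pow_iff_right hq.out.one_lt).mp hlt
  rw [ha] at hM3 hM5 hM7
  rw [ha, hb] at hdiv
  have hprime : ∀ M, q ^ a ∣ M → q ∣ M := fun M h => (dvd_pow_self q (by omega)).trans h
  -- small dimensions
  by_cases hk3 : k ≤ 3
  · by_contra hcon
    have hd5 : d ≤ 5 := by omega
    have hM := hM5 hd5
    have hq' : q = 3 ∨ q = 5 ∨ q = 7 ∨ q = 31 := by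
      have h := hprime _ hM
      rw [show 9765 = 3 * 3 * 5 * 7 * 31 by norm_num] at h
      simp only [hq.out.dvd_mul, Nat.prime_dvd_prime_iff_eq hq.out (by norm_num : Nat.Prime 3),
        Nat.prime_dvd_prime_iff_eq hq.out (by norm_num : Nat.Prime 5),
        Nat.prime_dvd_prime_iff_eq hq.out (by norm_num : Nat.Prime 7),
        Nat.prime_dvd_prime_iff_eq hq.out (by norm_num : Nat.Prime 31)] at h
      omega
    have ha2 : a ≤ 2 := by
      by_contra hgt
      have h3 : q ^ 3 ∣ 9765 := (pow_dvd_pow q (by omega)).trans hM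
      rcases hq' with rfl | rfl | rfl | rfl <;> norm_num at h3
    have habel : ∀ u ∈ Q, ∀ v ∈ Q, Commute u v := by
      by_contra hne
      obtain ⟨-, h3⟩ := hna hne
      rw [ha] at h3
      exact absurd ((Nat.pow_dvd_pow_iff_le_right hq.out.one_lt).mp h3) (by omega)
    have hΦ0 : b = 0 := by
      rw [hab habel, Subgroup.card_bot] at hb
      exact (Nat.pow_eq_one.mp hb.symm).resolve_left hq.out.ne_one
    subst hΦ0
    have hk2 : 2 ≤ k := by omega
    interval_cases k
    · -- four-element Sylow subgroup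
      have h21 := hM3 (by omega)
      interval_cases a <;> rcases hq' with rfl | rfl | rfl | rfl <;> revert h21 hdiv hM <;> norm_num
    · -- eight-element Sylow subgroup
      have h9 : q = 3 ∧ a = 2 := by
        interval_cases a <;> rcases hq' with rfl | rfl | rfl | rfl <;> revert hdiv hM <;> norm_num
      obtain ⟨rfl, rfl⟩ := h9
      have h8 := eight_le_finrank ρ hρ Q (by rw [ha]; norm_num) hexp habel
        (fun z hz hz1 w hw hw1 => ?_)
      · omega
      · have hmem : ∀ x ∈ Q, x ≠ 1 → x ∈ Q ∧ x ∉ Φ := fun x hx hx1 => ⟨hx, by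
          rw [hab habel, mem_bot]; exact hx1⟩
        let F : ↥(S : Subgroup G) → {x : G // x ∈ Q ∧ x ∉ Φ} := fun s =>
          ⟨(s : G) * z * (s : G)⁻¹, hinv s s.2 z (hmem z hz hz1)⟩
        have hFi : Function.Injective F := fun s s' h => by
          have h' : (s : G) * z * (s : G)⁻¹ = s' * z * (s' : G)⁻¹ := congrArg Subtype.val h
          by_contra hne
          refine hfree ((s' : G)⁻¹ * s) (mul_mem (inv_mem s'.2) s.2)
            (fun h0 => hne (Subtype.ext (inv_mul_eq_one.mp h0).symm)) z (hmem z hz hz1) ?_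
          calc (s' : G)⁻¹ * s * z * ((s' : G)⁻¹ * s)⁻¹ = (s' : G)⁻¹ * ((s : G) * z * (s : G)⁻¹) * s' := by group
            _ = z := by rw [h']; group
        have hcard : Nat.card {x : G // x ∈ Q ∧ x ∉ Φ} ≤ Nat.card (S : Subgroup G) := by
          rw [hk, show Nat.card {x : G // x ∈ Q ∧ x ∉ Φ} = ((Q : Set G) \ (Φ : Set G)).ncard from
            Nat.card_coe_set_eq ((Q : Set G) \ (Φ : Set G)), Set.ncard_sdiff hΦQ]
          show Nat.card Q - Nat.card Φ ≤ _
          rw [ha, hb]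
          norm_num
        obtain ⟨s, hs⟩ := (hFi.bijective_of_nat_card_le hcard).2 ⟨w, hmem w hw hw1⟩
        exact ⟨s, hSQ s.2, congrArg Subtype.val hs⟩
  -- large order elements
  obtain ⟨x, hxS, hxk⟩ := exists_large_order S.isPGroup'
    (fun x hx y hy hx2 hy2 => (huS x hx hx2).trans (huS y hy hy2).symm)
  obtain ⟨j, hj⟩ := hord x hxS
  rw [hk, hj, mul_comm 2, ← pow_succ] at hxk
  have hjk : k ≤ j + 1 := (Nat.pow_le_pow_iff_right (by norm_num)).mp hxk
  have hx1 : x ≠ 1 := fun h => by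
    rw [h, orderOf_one] at hj
    have : 2 ≤ 2 ^ j := Nat.le_self_pow (by omega) 2
    omega
  have hmono : 2 ^ (k - 1) ≤ 2 ^ j := Nat.pow_le_pow_right two_pos (by omega)
  rcases degree_bound ρ hρ hq2 Q hQp (j := j) (by omega) hj (hSQ hxS)
    (by rw [hpow x hxS hx1 j hj]; exact htQ) with hA | ⟨hne, hB⟩
  · have : 2 * k ≤ 2 ^ (k - 1) := by
      rcases eq_or_ne k 4 with rfl | h4
      · norm_num
      · have := eight_mul_le (k := k) (by omega)
        omega
    omega
  rcases eq_or_ne k 4 with rfl | h4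
  · -- a Sylow subgroup of order sixteen and `q = 3`
    obtain ⟨hqΦ, hq3⟩ := hna hne
    rw [hb] at hqΦ
    rw [ha] at hq3
    have hb1 : 1 ≤ b := by
      by_contra h
      rw [show b = 0 by omega, pow_zero, Nat.dvd_one] at hqΦ
      exact hq.out.ne_one hqΦ
    by_contra hcon
    have hM := hM7 (by omega)
    have ha3 : 3 ≤ a := (Nat.pow_dvd_pow_iff_le_right hq.out.one_lt).mp hq3
    have hq33 : q ^ 3 ∣ 78129765 := hq3.trans hM
    have hq' : q = 3 ∨ q = 5 ∨ q = 7 ∨ q = 31 ∨ q = 127 := by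
      have h := hprime _ hM
      rw [show 78129765 = 3 * 3 * 3 * 3 * 5 * 7 * 7 * 31 * 127 by norm_num] at h
      simp only [hq.out.dvd_mul, Nat.prime_dvd_prime_iff_eq hq.out (by norm_num : Nat.Prime 3),
        Nat.prime_dvd_prime_iff_eq hq.out (by norm_num : Nat.Prime 5),
        Nat.prime_dvd_prime_iff_eq hq.out (by norm_num : Nat.Prime 7),
        Nat.prime_dvd_prime_iff_eq hq.out (by norm_num : Nat.Prime 31),
        Nat.prime_dvd_prime_iff_eq hq.out (by norm_num : Nat.Prime 127)] at h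
      omega
    have hq3' : q = 3 := by
      rcases hq' with rfl | rfl | rfl | rfl | rfl <;> revert hq33 <;> norm_num
    subst hq3'
    have ha4 : a ≤ 4 := by
      by_contra h
      have h5 : 3 ^ 5 ∣ 78129765 := (pow_dvd_pow 3 (by omega)).trans hM
      norm_num at h5
    interval_cases a <;> interval_cases b <;> norm_num at hdiv
  · have := eight_mul_le (k := k) (by omega)
    omega

end Cfsg.Agent.H88.SEModule
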