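import Cfsg.Agent.H88.SEModule.BenderCase
import Cfsg.Agent.H88.SEModule.SingleCase

/-!
The statement of S3841, given Bender's theorem for simple groups.
-/

set_option autoImplicit false
set_option linter.style.haveILetI false

namespace Cfsg.Agent.H88.SEModule

open Subgroup Cfsg.Agent

universe u

theorem card_inf_centralizer {G : Type*} [Group G] (S : Subgroup G) :
    Nat.card ↥(S ⊓ centralizer (S : Set G)) = Nat.card (center S) := by
  refine Eq.trans ?_ (card_map_of_injective S.subtype_injective)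
  refine congrArg (fun K : Subgroup G => Nat.card K) ?_
  ext x
  simp only [mem_inf, mem_centralizer_iff, mem_map, coe_subtype, mem_center_iff]
  constructor
  · rintro ⟨hx, hc⟩
    exact ⟨⟨x, hx⟩, fun g => Subtype.ext (hc g g.2), rfl⟩
  · rintro ⟨y, hy, rfl⟩
    exact ⟨y.2, fun g hg => congrArg Subtype.val (hy ⟨g, hg⟩)⟩

theorem module_dimensions (hBend : H76.PostBender.BenderHyp.{u}) {G : Type u} [Group G] [Finite G]
    (H : Subgroup G) (hH : Cfsg.IsStronglyEmbedded H) (S : Sylow 2 G) {V : Type*} [AddCommGroup V]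
    [Module (ZMod 2) V] [Module.Finite (ZMod 2) V] (ρ : Representation (ZMod 2) G V)
    (hρ : Function.Injective ρ) :
    (∀ k : ℕ, Nat.card ↥(S : Subgroup G) = 2 ^ k → 2 * k ≤ Module.finrank (ZMod 2) V) ∧
      ∀ n : ℕ, (∀ z ∈ (S : Subgroup G) ⊓ centralizer ((S : Subgroup G) : Set G), z ^ 2 = 1) →
        Nat.card ↥((S : Subgroup G) ⊓ centralizer ((S : Subgroup G) : Set G)) = 2 ^ n →
        ∀ s ∈ (S : Subgroup G), s ≠ 1 → n ≤ Module.finrank (ZMod 2) ↥(LinearMap.range (ρ s - 1)) := by
  haveI : Fact (Nat.Prime 2) := ⟨Nat.prime_two⟩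
  by_cases h1 : ∀ s w : G, orderOf s = 2 → orderOf w = 2 → Commute s w → s = w
  · refine ⟨fun k hk => single_case hH h1 S ρ hρ hk, fun n hel hn s _ hs1 => ?_⟩
    have hr : Module.finrank (ZMod 2) ↥(LinearMap.range (ρ s - 1)) ≠ 0 := fun h => hs1 (hρ (by
      rw [map_one]
      exact sub_eq_zero.mp (LinearMap.range_eq_bot.mp (Submodule.finrank_eq_zero.mp h))))
    -- the elementary centre has at most two elements
    have h2 : Nat.card ↥((S : Subgroup G) ⊓ centralizer ((S : Subgroup G) : Set G)) ≤ 2 := by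
      by_contra hgt
      set Z := (S : Subgroup G) ⊓ centralizer ((S : Subgroup G) : Set G) with hZ
      haveI := Fintype.ofFinite Z
      obtain ⟨a, b, c, hab, hac, hbc⟩ := Fintype.two_lt_card_iff.mp
        (show 2 < Fintype.card Z by rw [← Nat.card_eq_fintype_card]; omega)
      have key : ∀ x : Z, x ≠ 1 → orderOf (x : G) = 2 := fun x hx =>
        orderOf_eq_prime (hel x x.2) fun h => hx (Subtype.ext h)
      have huniq : ∀ x y : Z, x ≠ 1 → y ≠ 1 → x = y := fun x y hx hy =>
        Subtype.ext (h1 _ _ (key x hx) (key y hy) (mem_centralizer_iff.mp y.2.2 x x.2.1))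
      by_cases ha : a = 1
      · exact hbc (huniq b c (fun h => hab (ha.trans h.symm)) (fun h => hac (ha.trans h.symm)))
      · by_cases hb : b = 1
        · exact hac (huniq a c ha (fun h => hbc (hb.trans h.symm)))
        · exact hab (huniq a b ha hb)
    rw [hn] at h2
    have : n ≤ 1 := (Nat.pow_le_pow_iff_right (show 1 < 2 by norm_num)).mp (by simpa using h2)
    omega
  push Not at h1
  obtain ⟨t, v, ht, hv, hc, htv⟩ := h1
  obtain ⟨hS, hrk⟩ := bender_case hBend hH ht hv hc htv S ρ hρ
  refine ⟨fun k hk => ?_, fun n _ hn s hs hs1 => ?_⟩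
  · rw [hk, ← pow_mul, mul_comm] at hS
    exact (Nat.pow_le_pow_iff_right (show 1 < 2 by norm_num)).mp hS
  · have := hrk s hs hs1
    rw [← card_inf_centralizer, hn] at this
    exact (Nat.pow_le_pow_iff_right (show 1 < 2 by norm_num)).mp this

end Cfsg.Agent.H88.SEModule
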