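import Cfsg.Agent.H88.SEModule.Counting

/-!
A group of order nine with a transitive group of automorphisms needs dimension eight over two elements.
-/

set_option autoImplicit false
set_option linter.style.haveILetI false

namespace Cfsg.Agent.H88.SEModule

open Subgroup
open scoped IsMulCommutative

variable {G : Type*} [Group G] [Finite G] {V : Type*} [AddCommGroup V] [Module (ZMod 2) V]
  [Module.Finite (ZMod 2) V]

theorem eight_le_finrank (ρ : Representation (ZMod 2) G V) (hρ : Function.Injective ρ) (Q : Subgroup G)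
    (h9 : Nat.card Q = 9) (hexp : ∀ z ∈ Q, z ^ 3 = 1) (hcomm : ∀ a ∈ Q, ∀ b ∈ Q, Commute a b)
    (htrans : ∀ z ∈ Q, z ≠ 1 → ∀ w ∈ Q, w ≠ 1 → ∃ g ∈ normalizer (Q : Set G), g * z * g⁻¹ = w) :
    8 ≤ Module.finrank (ZMod 2) V := by
  haveI : Fact (Nat.Prime 3) := ⟨Nat.prime_three⟩
  haveI : Nontrivial Q := Finite.one_lt_card_iff_nontrivial.mp (by omega)
  obtain ⟨x, hx, hx1⟩ : ∃ x ∈ Q, x ≠ 1 := by
    obtain ⟨⟨x, hx⟩, hne⟩ := exists_ne (1 : Q)
    exact ⟨x, hx, fun h => hne (Subtype.ext h)⟩
  have hxo : orderOf x = 3 := orderOf_eq_prime (hexp x hx) hx1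
  obtain ⟨y, hy, hyx⟩ : ∃ y ∈ Q, y ∉ zpowers x := by
    by_contra h
    push Not at h
    have := card_dvd_of_le (H := Q) (K := zpowers x) h
    rw [h9, Nat.card_zpowers, hxo] at this
    norm_num at this
  have hgen : closure ({x, y} : Set G) = Q := by
    have hle : closure ({x, y} : Set G) ≤ Q := (closure_le _).mpr (by
      rintro z (rfl | rfl)
      exacts [hx, hy])
    refine eq_of_le_of_card_ge hle ?_
    have h1 : zpowers x ≤ closure ({x, y} : Set G) := zpowers_le.mpr (subset_closure (Or.inl rfl))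
    have hd := card_dvd_of_le h1
    have hne : zpowers x ≠ closure ({x, y} : Set G) := fun h =>
      hyx (h.symm ▸ subset_closure (Or.inr rfl))
    have hd2 := card_dvd_of_le hle
    rw [h9] at hd2
    rw [Nat.card_zpowers, hxo] at hd
    have hlt : 3 < Nat.card (closure ({x, y} : Set G)) := by
      by_contra hh
      exact hne (eq_of_le_of_card_ge h1 (by rw [Nat.card_zpowers, hxo]; omega))
    rw [h9]
    obtain ⟨j, hj, hj'⟩ := (Nat.dvd_prime_pow Nat.prime_three (m := 2)).mp hd2
    rw [hj'] at hlt ⊢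
    interval_cases j <;> omega
  -- the commutative ring generated by the two operators
  set C : Subring (Module.End (ZMod 2) V) := Subring.closure {ρ x, ρ y} with hC
  haveI : IsMulCommutative C := Subring.isMulCommutative_closure (by
    have hc : ρ x * ρ y = ρ y * ρ x := by rw [← map_mul, ← map_mul, (hcomm x hx y hy).eq]
    rintro a (rfl | rfl) b (rfl | rfl)
    exacts [rfl, hc, hc.symm, rfl])
  let X : C := ⟨ρ x, Subring.subset_closure (Or.inl rfl)⟩
  let Y : C := ⟨ρ y, Subring.subset_closure (Or.inr rfl)⟩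
  have hX : X ^ 3 = 1 := Subtype.ext (by
    show ρ x ^ 3 = 1
    rw [← map_pow, hexp x hx, map_one])
  have hY : Y ^ 3 = 1 := Subtype.ext (by
    show ρ y ^ 3 = 1
    rw [← map_pow, hexp y hy, map_one])
  have hadd : ∀ v : V, v + v = 0 := fun v => by
    rw [← two_smul (ZMod 2) v, show (2 : ZMod 2) = 0 from rfl, zero_smul]
  have h2 : (2 : C) = 0 := by
    rw [show (2 : C) = 1 + 1 from one_add_one_eq_two.symm]
    exact Subtype.ext (LinearMap.ext fun v => hadd v)
  set A : Fin 4 → C := ![X, Y, X * Y, X ^ 2 * Y] with hA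
  obtain ⟨-, horth, hidem, hall⟩ := e3_nine h2 hX hY A hA
  let z : Fin 4 → G := ![x, y, x * y, x ^ 2 * y]
  have hzA : ∀ i, ((A i : C) : Module.End (ZMod 2) V) = ρ (z i) := by
    intro i; fin_cases i <;> simp [A, z, X, Y]
  have hzQ : ∀ i, z i ∈ Q := by
    intro i
    fin_cases i
    exacts [hx, hy, mul_mem hx hy, mul_mem (pow_mem hx 2) hy]
  have hz1 : ∀ i, z i ≠ 1 := by
    intro i h
    fin_cases i
    · exact hx1 h
    · change y = 1 at h; exact hyx (h ▸ one_mem _)
    · change x * y = 1 at h; exact hyx (eq_inv_of_mul_eq_one_right h ▸ inv_mem (mem_zpowers x))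
    · change x ^ 2 * y = 1 at h
      exact hyx (eq_inv_of_mul_eq_one_right h ▸ inv_mem (pow_mem (mem_zpowers x) 2))
  set E : C := e3 X * e3 Y with hE
  have he3 : ∀ (a : C) (v : V), (a : Module.End (ZMod 2) V) v = v → ((e3 a : C) : Module.End (ZMod 2) V) v = v := by
    intro a v hv
    show v + (a : Module.End (ZMod 2) V) v + ((a ^ 2 : C) : Module.End (ZMod 2) V) v = v
    rw [sq]
    show v + (a : Module.End (ZMod 2) V) v + (a : Module.End (ZMod 2) V) ((a : Module.End (ZMod 2) V) v) = v
    rw [hv, hv, hadd, zero_add]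
  -- `P` holds when the fixed points of `z` are fixed by `Q`
  set P : G → Prop := fun w => ∀ v : V, ρ w v = v → ∀ u ∈ Q, ρ u v = v with hP
  have hPinv : ∀ w ∈ Q, ∀ g ∈ normalizer (Q : Set G), P w → P (g * w * g⁻¹) := by
    intro w _ g hg h v hv u hu
    have h1 : ρ w (ρ g⁻¹ v) = ρ g⁻¹ v := by
      conv_rhs => rw [← hv, ← Module.End.mul_apply, ← map_mul]
      rw [← Module.End.mul_apply, ← map_mul]
      congr 2; group
    have h2 := h _ h1 (g⁻¹ * u * g) (by
      have := (mem_normalizer_iff.mp (inv_mem hg) u).mp hu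
      simpa using this)
    have h3 := congrArg (ρ g) h2
    rw [← Module.End.mul_apply, ← Module.End.mul_apply, ← Module.End.mul_apply, ← map_mul, ← map_mul,
      ← map_mul] at h3
    simpa [mul_assoc] using h3
  have hPE : ∀ i, P (z i) → e3 (A i) = E := by
    intro i hPi
    refine Subtype.ext (LinearMap.ext fun v => ?_)
    have hcube : A i * e3 (A i) = e3 (A i) := e3_absorb (by
      refine Subtype.ext ?_
      show ((A i : C) : Module.End (ZMod 2) V) ^ 3 = 1
      rw [hzA, ← map_pow, hexp _ (hzQ i), map_one])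
    have hfw : ρ (z i) (((e3 (A i) : C) : Module.End (ZMod 2) V) v) = ((e3 (A i) : C) : Module.End (ZMod 2) V) v := by
      rw [← hzA, ← Module.End.mul_apply]
      exact congrArg (fun c : C => (c : Module.End (ZMod 2) V) v) hcube
    have hxw := hPi _ hfw x hx
    have hyw := hPi _ hfw y hy
    have hEw : (E : Module.End (ZMod 2) V) (((e3 (A i) : C) : Module.End (ZMod 2) V) v) =
        ((e3 (A i) : C) : Module.End (ZMod 2) V) v := by
      show ((e3 X : C) : Module.End (ZMod 2) V) (((e3 Y : C) : Module.End (ZMod 2) V) _) = _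
      rw [he3 Y _ hyw, he3 X _ hxw]
    rw [← hEw, ← Module.End.mul_apply]
    have hc : E * e3 (A i) = E := by
      rw [mul_comm]
      exact e3_fix h2 ((e3_nine h2 hX hY A hA).1 i)
    exact congrArg (fun c : C => (c : Module.End (ZMod 2) V) v) hc
  -- some element moves the fixed points of another, so all do
  have hnP : ∀ i, ¬ P (z i) := by
    intro i hPi
    have hall' : ∀ j, e3 (A j) = E := fun j => by
      obtain ⟨g, hg, hgj⟩ := htrans _ (hzQ i) (hz1 i) _ (hzQ j) (hz1 j)
      exact hPE j (hgj ▸ hPinv _ (hzQ i) g hg hPi)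
    have hE1 : E = 1 := hall hall'
    have hXE : A 0 * E = E := (e3_nine h2 hX hY A hA).1 0
    rw [hE1, mul_one] at hXE
    exact hx1 (hρ (by rw [map_one]; exact congrArg Subtype.val hXE))
  let f : Fin 4 → Module.End (ZMod 2) V := fun i => ((e3 (A i) - E : C) : Module.End (ZMod 2) V)
  have hrank : ∀ i, 2 ≤ Module.finrank (ZMod 2) ↥(LinearMap.range (f i)) := by
    intro i
    have h := hnP i
    rw [hP] at h
    push Not at h
    obtain ⟨v, hv, u, hu, huv⟩ := h
    obtain ⟨w, hw, hwv⟩ : ∃ w : G, (w = x ∨ w = y) ∧ ρ w v ≠ v := by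
      by_contra h
      push Not at h
      let St : Subgroup G :=
        { carrier := {g | ρ g v = v}
          mul_mem' := fun {a b} ha hb => by
            show ρ (a * b) v = v
            rw [map_mul, Module.End.mul_apply, hb, ha]
          one_mem' := by simp
          inv_mem' := fun {a} ha => by
            show ρ a⁻¹ v = v
            conv_lhs => rw [← ha, ← Module.End.mul_apply, ← map_mul, inv_mul_cancel, map_one]
            rfl }
      have hle : closure ({x, y} : Set G) ≤ St := (closure_le _).mpr fun a ha => h a ha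
      exact huv (hle (hgen.symm ▸ hu))
    obtain ⟨W, hW, hWA⟩ : ∃ W : C, (W : Module.End (ZMod 2) V) = ρ w ∧ W * E = E := by
      rcases hw with rfl | rfl
      exacts [⟨X, rfl, (e3_nine h2 hX hY A hA).1 0⟩, ⟨Y, rfl, (e3_nine h2 hX hY A hA).1 1⟩]
    set a := f i v with ha
    have hfa : a = v - (E : Module.End (ZMod 2) V) v := by
      show ((e3 (A i) : C) : Module.End (ZMod 2) V) v - (E : Module.End (ZMod 2) V) v = _
      rw [he3 (A i) v (by rw [hzA]; exact hv)]
    have hWa : ρ w a ≠ a := by
      rw [hfa, map_sub, ← hW]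
      have : (W : Module.End (ZMod 2) V) ((E : Module.End (ZMod 2) V) v) = (E : Module.End (ZMod 2) V) v :=
        congrArg (fun c : C => (c : Module.End (ZMod 2) V) v) hWA
      rw [this]
      intro hh
      exact hwv (hW ▸ sub_left_inj.mp hh)
    have ha0 : a ≠ 0 := fun h => hWa (by rw [h, map_zero])
    have hWmem : ρ w a ∈ LinearMap.range (f i) := ⟨(W : Module.End (ZMod 2) V) v, by
      rw [ha, ← hW, ← Module.End.mul_apply, ← Module.End.mul_apply]
      exact congrArg (fun c : C => (c : Module.End (ZMod 2) V) v) (mul_comm _ W)⟩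
    by_contra hlt
    obtain ⟨c, hc⟩ := finrank_le_one_iff.mp (show Module.finrank (ZMod 2) ↥(LinearMap.range (f i)) ≤ 1 by omega)
    have hbit : ∀ r : ZMod 2, r = 0 ∨ r = 1 := by decide
    have hval : ∀ b ∈ LinearMap.range (f i), b = 0 ∨ b = (c : V) := fun b hb => by
      obtain ⟨r, hr⟩ := hc ⟨b, hb⟩
      have hr' : r • (c : V) = b := congrArg Subtype.val hr
      rcases hbit r with rfl | rfl
      · exact Or.inl (by rw [← hr', zero_smul])
      · exact Or.inr (by rw [← hr', one_smul])
    have hWa0 : ρ w a ≠ 0 := fun h => ha0 (by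
      have := congrArg (ρ w⁻¹) h
      rwa [← Module.End.mul_apply, ← map_mul, inv_mul_cancel, map_one, map_zero] at this)
    exact hWa (((hval _ hWmem).resolve_left hWa0).trans ((hval a ⟨v, rfl⟩).resolve_left ha0).symm)
  have hsum := sum_finrank_range_le f
    (fun i => by exact congrArg Subtype.val (hidem i)) (fun i j hij => by exact congrArg Subtype.val (horth i j hij))
  have : ∑ _i : Fin 4, 2 ≤ ∑ i, Module.finrank (ZMod 2) ↥(LinearMap.range (f i)) :=
    Finset.sum_le_sum fun i _ => hrank i
  simp at this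
  omega

end Cfsg.Agent.H88.SEModule
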