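import Mathlib

/-!
The semidirect product of a representation over the field with two elements, for subgroup forms of module bounds.
-/

set_option autoImplicit false
set_option linter.style.haveILetI false

namespace Cfsg.Agent.H88.SEModule

open Subgroup

variable {G : Type*} [Group G] {V : Type*} [AddCommGroup V] [Module (ZMod 2) V]
  (ρ : Representation (ZMod 2) G V)

/-- The action of `G` on `Multiplicative V`. -/
noncomputable def mulAutHom : G →* MulAut (Multiplicative V) :=
  (MulAutMultiplicative V).symm.toMonoidHom.comp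
    ((DistribMulAction.toAddAut ((V →ₗ[ZMod 2] V)ˣ) V).comp ρ.asGroupHom)

theorem mulAutHom_apply (g : G) (v : Multiplicative V) :
    mulAutHom ρ g v = Multiplicative.ofAdd (ρ g (Multiplicative.toAdd v)) := rfl

/-- `V ⋊ G`. -/
abbrev Semi := Multiplicative V ⋊[mulAutHom ρ] G

/-- The copy of `V`. -/
noncomputable abbrev base : Subgroup (Semi ρ) := (SemidirectProduct.inl : Multiplicative V →* Semi ρ).range

theorem finite_semi [Finite G] [Module.Finite (ZMod 2) V] : Finite (Semi ρ) := by
  haveI : Finite V := Module.finite_of_finite (ZMod 2)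
  haveI : Finite (Multiplicative V) := Finite.of_equiv V Multiplicative.ofAdd
  exact Finite.of_equiv (Multiplicative V × G) SemidirectProduct.equivProd.symm

theorem card_base [Module.Finite (ZMod 2) V] :
    Nat.card ↥(base ρ) = 2 ^ Module.finrank (ZMod 2) V := by
  rw [← Nat.card_congr (MonoidHom.ofInjective SemidirectProduct.inl_injective).toEquiv,
    Nat.card_congr Multiplicative.toAdd, Module.natCard_eq_pow_finrank (K := ZMod 2), Nat.card_zmod]

theorem isPGroup_base [Module.Finite (ZMod 2) V] : IsPGroup 2 ↥(base ρ) :=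
  IsPGroup.of_card (card_base ρ)

theorem le_normalizer_base (H : Subgroup (Semi ρ)) : H ≤ normalizer (base ρ : Set (Semi ρ)) := by
  have hn : (base ρ).Normal := by
    rw [base, SemidirectProduct.range_inl_eq_ker_rightHom]; infer_instance
  rw [normalizer_eq_top_iff.mpr hn]
  exact le_top

theorem commute_inr_inl {g : G} {v : V} :
    Commute (SemidirectProduct.inr g : Semi ρ) (SemidirectProduct.inl (Multiplicative.ofAdd v)) ↔
      ρ g v = v := by
  rw [commute_iff_eq, SemidirectProduct.ext_iff]
  simp [mulAutHom_apply]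

theorem mem_centralizer_base {g : G} :
    (SemidirectProduct.inr g : Semi ρ) ∈ centralizer (base ρ : Set (Semi ρ)) ↔ ρ g = 1 := by
  rw [mem_centralizer_iff]
  constructor
  · intro h
    refine LinearMap.ext fun v => ?_
    exact (commute_inr_inl ρ).mp (h _ ⟨Multiplicative.ofAdd v, rfl⟩).symm
  · rintro h _ ⟨v, rfl⟩
    refine ((commute_inr_inl ρ (v := Multiplicative.toAdd v)).mpr ?_).eq.symm
    rw [h]; rfl

/-- The index of the centralizer in `V` is `2 ^ dim [V, g]`. -/
theorem relIndex_centralizer [Module.Finite (ZMod 2) V] (g : G) :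
    (base ρ ⊓ centralizer ({(SemidirectProduct.inr g : Semi ρ)} : Set (Semi ρ))).relIndex (base ρ) =
      2 ^ Module.finrank (ZMod 2) ↥(LinearMap.range (ρ g - 1)) := by
  set W : Subgroup (Multiplicative V) := (LinearMap.ker (ρ g - 1)).toAddSubgroup.toSubgroup with hW
  have hmap : W.map (SemidirectProduct.inl : Multiplicative V →* Semi ρ) =
      base ρ ⊓ centralizer ({(SemidirectProduct.inr g : Semi ρ)} : Set (Semi ρ)) := by
    ext z
    constructor
    · rintro ⟨v, hv, rfl⟩
      refine ⟨⟨v, rfl⟩, mem_centralizer_singleton_iff.mpr ?_⟩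
      have hv' : (ρ g - 1) (Multiplicative.toAdd v) = 0 := hv
      rw [LinearMap.sub_apply, Module.End.one_apply, sub_eq_zero] at hv'
      exact ((commute_inr_inl ρ (v := Multiplicative.toAdd v)).mpr hv').eq.symm
    · rintro ⟨⟨v, rfl⟩, hc⟩
      refine ⟨v, ?_, rfl⟩
      have hv := (commute_inr_inl ρ (v := Multiplicative.toAdd v)).mp
        (mem_centralizer_singleton_iff.mp hc).symm
      show (ρ g - 1) (Multiplicative.toAdd v) = 0
      rw [LinearMap.sub_apply, Module.End.one_apply, hv, sub_self]
  rw [← hmap, show base ρ = (⊤ : Subgroup (Multiplicative V)).map SemidirectProduct.inl from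
    MonoidHom.range_eq_map _, relIndex_map_map_of_injective _ _ SemidirectProduct.inl_injective,
    relIndex_top_right]
  haveI : Finite V := Module.finite_of_finite (ZMod 2)
  have h1 := W.card_mul_index
  have hc : Nat.card W = 2 ^ Module.finrank (ZMod 2) (LinearMap.ker (ρ g - 1)) := by
    rw [show Nat.card W = Nat.card (LinearMap.ker (ρ g - 1)) from
      Nat.card_congr (Equiv.subtypeEquiv Multiplicative.toAdd fun x => Iff.rfl),
      Module.natCard_eq_pow_finrank (K := ZMod 2), Nat.card_zmod]
  have hV : Nat.card (Multiplicative V) = 2 ^ Module.finrank (ZMod 2) V := by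
    rw [Nat.card_congr Multiplicative.toAdd, Module.natCard_eq_pow_finrank (K := ZMod 2), Nat.card_zmod]
  have h3 := LinearMap.finrank_range_add_finrank_ker (ρ g - 1)
  rw [hc, hV, ← h3, pow_add, mul_comm (2 ^ Module.finrank (ZMod 2) (LinearMap.range (ρ g - 1)))] at h1
  exact Nat.eq_of_mul_eq_mul_left (pow_pos two_pos _) h1

/-- The commutator space of a power is contained in that of the element. -/
theorem finrank_range_pow_le [Module.Finite (ZMod 2) V] (s : G) (i : ℕ) :
    Module.finrank (ZMod 2) ↥(LinearMap.range (ρ (s ^ i) - 1)) ≤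
      Module.finrank (ZMod 2) ↥(LinearMap.range (ρ s - 1)) := by
  refine Submodule.finrank_mono ?_
  rw [map_pow, ← mul_geom_sum, Module.End.mul_eq_comp]
  exact LinearMap.range_comp_le_range _ _

end Cfsg.Agent.H88.SEModule
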